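import Groth.Agent.DerLib.KInjDerived
import Mathlib.CategoryTheory.Adjunction.Whiskering

/-!
# Total derived functors composed with a right adjoint
-/

set_option autoImplicit false

open CategoryTheory

namespace Groth.Agent.CoheratorPushLib

variable {KA KB DA DB T : Type*} [Category KA] [Category KB] [Category DA] [Category DB] [Category T]
  {Qa : KA ⥤ DA} {Qb : KB ⥤ DB} {L : DB ⥤ DA} {R : DA ⥤ DB} {l : KB ⥤ KA} {r : KA ⥤ KB}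

/-- Maps out of `R ⋙ Gd`, where `Gd` is a left Kan extension, `R` a right adjoint. -/
noncomputable def corep (adjD : L ⊣ R) (adjK : l ⊣ r) (e : Qb ⋙ L ≅ l ⋙ Qa) {G : KB ⥤ T}
    (Gd : DB ⥤ T) (γ : G ⟶ Qb ⋙ Gd) [Gd.IsLeftKanExtension γ] (H : DA ⥤ T) :
    (R ⋙ Gd ⟶ H) ≃ (r ⋙ G ⟶ Qa ⋙ H) :=
  ((((adjD.whiskerLeft T).homEquiv Gd H).trans (Gd.homEquivOfIsLeftKanExtension γ _)).trans
    ((Functor.associator Qb L H).symm ≪≫ Functor.isoWhiskerRight e H ≪≫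
      Functor.associator l Qa H).homToEquiv).trans ((adjK.whiskerLeft T).homEquiv G (Qa ⋙ H)).symm

theorem corep_comp (adjD : L ⊣ R) (adjK : l ⊣ r) (e : Qb ⋙ L ≅ l ⋙ Qa) {G : KB ⥤ T}
    (Gd : DB ⥤ T) (γ : G ⟶ Qb ⋙ Gd) [Gd.IsLeftKanExtension γ] {H H' : DA ⥤ T}
    (f : R ⋙ Gd ⟶ H) (h : H ⟶ H') :
    corep adjD adjK e Gd γ H' (f ≫ h) = corep adjD adjK e Gd γ H f ≫ Functor.whiskerLeft Qa h := by
  refine Eq.trans ?_ ((adjK.whiskerLeft T).homEquiv_naturality_right_symm _ (Functor.whiskerLeft Qa h))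
  refine congrArg ((adjK.whiskerLeft T).homEquiv G (Qa ⋙ H')).symm ?_
  have h1 := (adjD.whiskerLeft T).homEquiv_naturality_right f h
  refine (congrArg (fun z => Gd.homEquivOfIsLeftKanExtension γ (L ⋙ H') z ≫ _) h1).trans ?_
  ext X
  have h2 := h.naturality (e.hom.app X)
  simp at h2 ⊢

/-- Two functors corepresenting isomorphic functors are isomorphic. -/
theorem nonempty_iso {P P' : DA ⥤ T} {G G' : KA ⥤ T}
    (c : ∀ H, (P ⟶ H) ≃ (G ⟶ Qa ⋙ H))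
    (hc : ∀ (H H' : DA ⥤ T) (f : P ⟶ H) (h : H ⟶ H'), c H' (f ≫ h) = c H f ≫ Functor.whiskerLeft Qa h)
    (c' : ∀ H, (P' ⟶ H) ≃ (G' ⟶ Qa ⋙ H))
    (hc' : ∀ (H H' : DA ⥤ T) (f : P' ⟶ H) (h : H ⟶ H'), c' H' (f ≫ h) = c' H f ≫ Functor.whiskerLeft Qa h)
    (ε : G ≅ G') : Nonempty (P ≅ P') := by
  let a : P ⟶ P' := (c P').symm (ε.hom ≫ c' P' (𝟙 P'))
  let b : P' ⟶ P := (c' P).symm (ε.inv ≫ c P (𝟙 P))
  have ha : c P' a = ε.hom ≫ c' P' (𝟙 P') := Equiv.apply_symm_apply _ _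
  have hb : c' P b = ε.inv ≫ c P (𝟙 P) := Equiv.apply_symm_apply _ _
  refine ⟨⟨a, b, (c P).injective ?_, (c' P').injective ?_⟩⟩
  · rw [hc, ha, Category.assoc, ← hc', Category.id_comp, hb, Iso.hom_inv_id_assoc]
  · rw [hc', hb, Category.assoc, ← hc, Category.id_comp, ha, Iso.inv_hom_id_assoc]

/-- Comparing two such composites. -/
theorem nonempty_comp_iso {KC DC : Type*} [Category KC] [Category DC] {Qc : KC ⥤ DC} {L' : DC ⥤ DA}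
    {R' : DA ⥤ DC} {l' : KC ⥤ KA} {r' : KA ⥤ KC}
    (adjD : L ⊣ R) (adjK : l ⊣ r) (e : Qb ⋙ L ≅ l ⋙ Qa) {G : KB ⥤ T} (Gd : DB ⥤ T) (γ : G ⟶ Qb ⋙ Gd)
    [Gd.IsLeftKanExtension γ]
    (adjD' : L' ⊣ R') (adjK' : l' ⊣ r') (e' : Qc ⋙ L' ≅ l' ⋙ Qa) {G' : KC ⥤ T} (Gd' : DC ⥤ T)
    (γ' : G' ⟶ Qc ⋙ Gd') [Gd'.IsLeftKanExtension γ'] (ε : r ⋙ G ≅ r' ⋙ G') :
    Nonempty (R ⋙ Gd ≅ R' ⋙ Gd') :=
  nonempty_iso (corep adjD adjK e Gd γ) (fun _ _ => corep_comp adjD adjK e Gd γ)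
    (corep adjD' adjK' e' Gd' γ') (fun _ _ => corep_comp adjD' adjK' e' Gd' γ') ε

end Groth.Agent.CoheratorPushLib
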